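import Groth.Agent.H45.Scheme.Flat
import Groth.Agent.H45.SheafTensor.StalkFlatConverse

/-!
# Flat modules on the ringed site of a scheme are stalkwise flat
-/

open CategoryTheory Limits Opposite AlgebraicGeometry TopologicalSpace

universe u

namespace Groth.Agent.H45

/-- An `O_X`-module on a scheme which is flat as a module on the ringed site of `X` is stalkwise
flat. -/
theorem flatMod_of_isFlat {X : Scheme.{u}} (M : X.Modules)
    (h : ModSite.IsFlat (O := X.sheaf) M) : FlatMod.IsFlat M := by
  intro x
  exact flat_stalk_of_lmr1 (X := X.toTopCat) (R := X.presheaf) ((forg X.sheaf).obj M)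
    (fun U n c m hcm => lmr1_of_isFlat M h U n c m hcm) x

theorem flatMod_iff_isFlat {X : Scheme.{u}} (M : X.Modules) :
    FlatMod.IsFlat M ↔ ModSite.IsFlat (O := X.sheaf) M :=
  ⟨isFlat_of_flatMod M, flatMod_of_isFlat M⟩

end Groth.Agent.H45
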