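import Groth.Agent.H45.SheafTensor.StalkFlat
import Groth.Prelude.Def_FlatMod2

/-!
# Stalkwise flat modules on a scheme are flat in the sense of ringed sites
-/

open CategoryTheory Limits Opposite AlgebraicGeometry TopologicalSpace

universe u

namespace Groth.Agent.H45

/-- A stalkwise flat `O_X`-module on a scheme is flat as a module on the ringed site of `X`. -/
theorem isFlat_of_flatMod {X : Scheme.{u}} (M : X.Modules) (h : FlatMod.IsFlat M) :
    ModSite.IsFlat (O := X.sheaf) M := by
  apply isFlat_of_lmr
  exact lmr_of_flat_stalks (X := X.toTopCat) (R := X.presheaf) ((forg X.sheaf).obj M) h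

end Groth.Agent.H45
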